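import Cfsg.Agent.N2.Cl.SzG.Main
import Cfsg.Agent.N2.Cl.Res.Base
import Cfsg.Agent.FP3.Aff.Final
import Cfsg.Agent.FP3.Red.PlugGen

/-!
# N2 (S3519): Scott's lemma on the endomorphism ring (helper97)

* `cA x = |C_E(x)|`, `Gen x y` (`x`, `y` and the centre generate the ring);
* `scottE`, `halfE`, `smallE` for `Module.End K V` (so for `h.EB`), `scottM`, `halfM`, `smallM` for matrices;
* `gen_of_res`, `res_pair`, `res_inv`, `res_small`, `res_small_sq`, `res_smallM`.
-/

set_option autoImplicit false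
set_option linter.unusedSectionVars false

namespace Cfsg.Agent.N2C.SzG

open Cfsg Cfsg.Agent.DS.Cl Cfsg.Agent.DS.Cl.Fwd Module Subgroup
open Cfsg.Agent.FP3 (fixSp comSp dfx mem_fixSp sub_mem_comSp scott_corr)

section ring

variable {E E' : Type*} [Ring E] [Ring E']

/-- the order of the commutant -/
noncomputable def cA (x : E) : ℕ := Nat.card {a : E // x * a = a * x}

/-- `x`, `y` and the centre generate the ring -/
def Gen (x y : E) : Prop := ∀ Z : Subring E, Subring.center E ≤ Z → x ∈ Z → y ∈ Z → Z = ⊤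

theorem cen_map (ρ : E →+* E') (hρ : Function.Surjective ρ) {z : E} (hz : z ∈ Subring.center E) : ρ z ∈ Subring.center E' :=
  Subring.mem_center_iff.2 fun g => by
    obtain ⟨a, rfl⟩ := hρ g
    rw [← map_mul, ← map_mul, Subring.mem_center_iff.1 hz]

theorem Gen.map (ρ : E →+* E') (hρ : Function.Surjective ρ) {x y : E} (h : Gen x y) : Gen (ρ x) (ρ y) := fun Z hZ hx hy =>
  eq_top_iff.2 fun g _ => by
    obtain ⟨a, rfl⟩ := hρ g
    exact (h (Z.comap ρ) (fun z hz => hZ (cen_map ρ hρ hz)) hx hy).ge (Subring.mem_top a)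

theorem cA_congr (e : E ≃+* E') (x : E) : cA (e x) = cA x :=
  (Nat.card_congr (e.toEquiv.subtypeEquiv fun a => by
    change _ ↔ e x * e a = e a * e x
    rw [← map_mul, ← map_mul, e.injective.eq_iff])).symm

/-- linear groups: the centraliser lies in the commutant -/
theorem cent_le_cA [Finite E] (u : Eˣ) (W : Subgroup Eˣ) : Nat.card ↥(centralizer {u} ⊓ W) ≤ cA (u : E) :=
  Nat.card_le_card_of_injective (fun c => ⟨c.1, congrArg Units.val (mem_centralizer_singleton_iff.1 c.2.1).symm⟩)
    fun _ _ h => Subtype.ext (Units.ext (Subtype.mk.inj h))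

theorem half_of_anti [Finite E] {x g : E} (hg : g * g = 1) (h : x * g = -(g * x)) (hx : x * x ∈ Subring.center E) :
    Nat.card E ≤ cA x ^ 2 := by
  let f : E →+ E := AddMonoidHom.mulLeft x - AddMonoidHom.mulRight x
  have hf : ∀ a, f a = x * a - a * x := fun _ => rfl
  rw [← f.ker.index_mul_card, AddSubgroup.index_ker, sq]
  refine Nat.mul_le_mul (Nat.card_le_card_of_injective (fun b => ⟨g * b.1, ?_⟩) fun b b' e => Subtype.ext ?_)
    (le_of_eq (Nat.card_congr (Equiv.subtypeEquivRight fun a => sub_eq_zero)))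
  · obtain ⟨a, ha⟩ := b.2
    have h1 := Subring.mem_center_iff.1 hx a
    rw [← mul_assoc, h, ← ha, hf]
    calc _ = -(g * (x * x * a)) + g * (x * a * x) := by noncomm_ring
      _ = _ := by rw [← h1]; noncomm_ring
  · rw [← one_mul b.1, ← hg, mul_assoc, Subtype.mk.inj e, ← mul_assoc, hg, one_mul]

end ring

section lin

variable {K V : Type*} [Field K] [AddCommGroup V] [Module K V] [Finite K] [Finite V]

theorem finite_end : Finite (Module.End K V) := Finite.of_injective (fun a : Module.End K V => (a : V → V)) DFunLike.coe_injective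

theorem card_end : Nat.card (Module.End K V) = Nat.card K ^ finrank K V ^ 2 := by
  have : Module.Finite K V := Module.Finite.of_finite
  rw [Module.natCard_eq_pow_finrank (K := K), Module.finrank_linearMap, sq]

theorem scalar_of_cen {z : Module.End K V} (hz : z ∈ Subring.center (Module.End K V)) : ∃ c : K, z = c • 1 := by
  obtain ⟨c, hc, rfl⟩ := Module.End.mem_subsemiringCenter_iff.1 hz
  exact ⟨c, rfl⟩

/-- conjugation -/
def cjE (x : (Module.End K V)ˣ) : Module.End K (Module.End K V) :=
  LinearMap.mulLeft K (x : Module.End K V) ∘ₗ LinearMap.mulRight K ((x⁻¹ : (Module.End K V)ˣ) : Module.End K V)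

theorem cjE_apply (x : (Module.End K V)ˣ) (a : Module.End K V) : cjE x a = x * (a * (x⁻¹ : (Module.End K V)ˣ)) := rfl

theorem mem_fix {x : (Module.End K V)ˣ} {a : Module.End K V} : a ∈ fixSp (cjE x) ↔ x * a = a * x := by
  rw [mem_fixSp, cjE_apply, ← mul_assoc, Units.mul_inv_eq_iff_eq_mul]

theorem cA_eq (x : (Module.End K V)ˣ) : cA (x : Module.End K V) = Nat.card K ^ dfx (cjE x) := by
  have : Module.Finite K V := Module.Finite.of_finite
  rw [dfx, ← Module.natCard_eq_pow_finrank]
  exact Nat.card_congr (Equiv.subtypeEquivRight fun a => mem_fix.symm)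

theorem codim_le (S : Submodule K (Module.End K V)) (h : ∀ a b, a * b - b * a ∈ S) : finrank K (Module.End K V ⧸ S) ≤ 1 := by
  have : Module.Finite K V := Module.Finite.of_finite
  let e := Module.finBasis K V
  rcases isEmpty_or_nonempty (Fin (finrank K V)) with h0 | ⟨⟨o⟩⟩
  · have := e.repr.toEquiv.subsingleton
    rw [Module.finrank_zero_of_subsingleton]
    exact Nat.zero_le _
  refine finrank_le_one (S.mkQ ((e.coord o).smulRight (e o))) fun w => ?_
  obtain ⟨a, rfl⟩ := S.mkQ_surjective w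
  refine ⟨∑ i, e.coord i (a (e i)), ?_⟩
  have h1 : a = ∑ i, (e.coord i).smulRight (a (e i)) := by
    ext x
    conv_lhs => rw [← e.sum_repr x, map_sum]
    simp
  conv_rhs => rw [h1, map_sum]
  rw [Finset.sum_smul]
  refine Finset.sum_congr rfl fun i _ => ?_
  rw [← map_smul, Submodule.mkQ_apply, Submodule.mkQ_apply, Submodule.Quotient.eq]
  convert h ((e.coord i).smulRight (e o)) ((e.coord o).smulRight (a (e i))) using 2
  · ext x
    simp [smul_smul, mul_comm]
  · ext x
    simp

/-- **Scott's lemma on the endomorphism ring** -/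
theorem scottE {x y : (Module.End K V)ˣ} (h : Gen (x : Module.End K V) y) :
    cA (x : Module.End K V) * cA (y : Module.End K V) * cA ((x * y : (Module.End K V)ˣ) : Module.End K V) ≤
      Nat.card K ^ (finrank K V ^ 2 + 2) := by
  have : Module.Finite K V := Module.Finite.of_finite
  have h1 := scott_corr (cjE x) (cjE y)
  have h2 : cjE x * cjE y = cjE (x * y) := LinearMap.ext fun a => by
    simp only [Module.End.mul_apply, cjE_apply, mul_inv_rev, Units.val_mul, mul_assoc]
  have h3 : finrank K ↥(fixSp (cjE x) ⊓ fixSp (cjE y)) ≤ 1 := by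
    refine finrank_le_one ⟨1, mem_fix.2 (by simp), mem_fix.2 (by simp)⟩ fun w => ?_
    have := h (Subring.centralizer {w.1}) (Subring.center_le_centralizer _)
      (by simpa [Subring.mem_centralizer_iff] using (mem_fix.1 w.2.1).symm)
      (by simpa [Subring.mem_centralizer_iff] using (mem_fix.1 w.2.2).symm)
    obtain ⟨c, hc⟩ := scalar_of_cen (z := w.1) (Subring.mem_center_iff.2 fun g => (this.ge (Subring.mem_top g) _ rfl).symm)
    exact ⟨c, Subtype.ext hc.symm⟩
  have h4 : finrank K (Module.End K V ⧸ (comSp (cjE x) ⊔ comSp (cjE y))) ≤ 1 := by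
    refine codim_le _ fun a => ?_
    set S := comSp (cjE x) ⊔ comSp (cjE y)
    let Z : Subring (Module.End K V) :=
      { carrier := {z | ∀ b, z * b - b * z ∈ S}
        mul_mem' := fun {z z'} hz hz' b => by
          convert S.add_mem (hz (z' * b)) (hz' (b * z)) using 1
          noncomm_ring
        one_mem' := fun b => by simp
        add_mem' := fun {z z'} hz hz' b => by
          convert S.add_mem (hz b) (hz' b) using 1
          noncomm_ring
        zero_mem' := fun b => by simp
        neg_mem' := fun {z} hz b => by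
          convert S.neg_mem (hz b) using 1
          noncomm_ring }
    have hc : ∀ (u : (Module.End K V)ˣ) (b : Module.End K V), u * b - b * u ∈ comSp (cjE u) := fun u b => by
      convert sub_mem_comSp (cjE u) (b * u) using 2
      rw [cjE_apply, Units.mul_inv_cancel_right]
    exact (h Z (fun z hz b => by rw [Subring.mem_center_iff.1 hz b, sub_self]; exact S.zero_mem)
      (fun b => Submodule.mem_sup_left (hc x b)) fun b => Submodule.mem_sup_right (hc y b)).ge (Subring.mem_top a)
  rw [cA_eq, cA_eq, cA_eq, ← pow_add, ← pow_add]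
  rw [h2, Module.finrank_linearMap, ← sq] at h1
  exact Nat.pow_le_pow_right Nat.card_pos (by omega)

theorem exists_anti {x : Module.End K V} {c : K} (hx : x * x = c • 1) (hc : ¬ IsSquare c) :
    ∃ g : Module.End K V, g * g = 1 ∧ x * g = -(g * x) := by
  have hxx : ∀ v, x (x v) = c • v := fun v => LinearMap.congr_fun hx v
  have : Finite (Submodule K V) := Finite.of_injective (fun P : Submodule K V => (P : Set V)) SetLike.coe_injective
  obtain ⟨P, hP⟩ := (Set.toFinite {P : Submodule K V | Disjoint P (P.map x)}).exists_maximal ⟨⊥, disjoint_bot_left⟩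
  have hW : ∀ w ∈ P ⊔ P.map x, x w ∈ P ⊔ P.map x := fun w hw => by
    obtain ⟨p, hp, _, ⟨p', hp', rfl⟩, rfl⟩ := Submodule.mem_sup.1 hw
    rw [map_add, hxx]
    exact add_mem (Submodule.mem_sup_right ⟨p, hp, rfl⟩) (Submodule.mem_sup_left (P.smul_mem c hp'))
  have hPQ : IsCompl P (P.map x) := ⟨hP.1, codisjoint_iff.2 (eq_top_iff.2 fun v _ => by
    by_contra hv
    refine hv (Submodule.mem_sup_left (hP.2 (y := P ⊔ K ∙ v) (Submodule.disjoint_def.2 ?_) le_sup_left
      (Submodule.mem_sup_right (Submodule.mem_span_singleton_self v))))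
    rintro w hw ⟨w', hw', e⟩
    obtain ⟨p, hp, _, hs, rfl⟩ := Submodule.mem_sup.1 hw
    obtain ⟨a, rfl⟩ := Submodule.mem_span_singleton.1 hs
    obtain ⟨p', hp', _, hs', rfl⟩ := Submodule.mem_sup.1 hw'
    obtain ⟨b, rfl⟩ := Submodule.mem_span_singleton.1 hs'
    rw [map_add, map_smul] at e
    have h1 : a • v - b • x v ∈ P ⊔ P.map x := by
      rw [show a • v - b • x v = x p' - p by rw [sub_eq_sub_iff_add_eq_add, add_comm, ← e]]
      exact sub_mem (Submodule.mem_sup_right ⟨p', hp', rfl⟩) (Submodule.mem_sup_left hp)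
    have h2 : (a * a - b * b * c) • v ∈ P ⊔ P.map x := by
      convert add_mem (Submodule.smul_mem _ a h1) (Submodule.smul_mem _ b (hW _ h1)) using 1
      rw [map_sub, map_smul, map_smul, hxx]
      module
    have h3 : a * a - b * b * c = 0 := by
      by_contra h3
      exact hv ((Submodule.smul_mem_iff _ h3).1 h2)
    have h4 : b = 0 := by
      by_contra h4
      exact hc ⟨a / b, by field_simp; linear_combination -h3⟩
    have h5 : a = 0 := by simpa [h4] using h3
    rw [h4, h5, zero_smul, zero_smul, add_zero, add_zero] at e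
    rw [h5, zero_smul, add_zero]
    exact Submodule.disjoint_def.1 hP.1 p hp ⟨p', hp', e⟩)⟩
  let g := LinearMap.ofIsCompl hPQ P.subtype (-(P.map x).subtype)
  have g1 : ∀ p ∈ P, g p = p := fun p hp => LinearMap.ofIsCompl_apply_left hPQ ⟨p, hp⟩
  have g2 : ∀ p ∈ P, g (x p) = -x p := fun p hp => LinearMap.ofIsCompl_apply_right hPQ ⟨x p, p, hp, rfl⟩
  refine ⟨g, LinearMap.ext_on_codisjoint hPQ.codisjoint (fun p hp => ?_) ?_, LinearMap.ext_on_codisjoint hPQ.codisjoint (fun p hp => ?_) ?_⟩
  · rw [Module.End.mul_apply, g1 p hp, g1 p hp, Module.End.one_apply]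
  · rintro _ ⟨p, hp, rfl⟩
    rw [Module.End.mul_apply, g2 p hp, map_neg, g2 p hp, neg_neg, Module.End.one_apply]
  · rw [Module.End.mul_apply, LinearMap.neg_apply, Module.End.mul_apply, g1 p hp, g2 p hp, neg_neg]
  · rintro _ ⟨p, hp, rfl⟩
    rw [Module.End.mul_apply, LinearMap.neg_apply, Module.End.mul_apply, g2 p hp, map_neg, hxx, g1 _ (P.smul_mem c hp)]

theorem half_split {x : Module.End K V} {s : K} (hx : x * x = (s * s) • 1) (hs : 2 * s ≠ 0) :
    Nat.card (Module.End K V) ≤ cA x ^ 2 := by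
  have : Module.Finite K V := Module.Finite.of_finite
  have := finite_end (K := K) (V := V)
  have hxx : ∀ v, x (x v) = (s * s) • v := fun v => LinearMap.congr_fun hx v
  let P := LinearMap.eqLocus x (s • 1)
  let Q := LinearMap.eqLocus x ((-s) • 1)
  have hP : ∀ {v}, v ∈ P ↔ x v = s • v := Iff.rfl
  have hQ : ∀ {v}, v ∈ Q ↔ x v = (-s) • v := Iff.rfl
  have hPQ : IsCompl P Q := ⟨Submodule.disjoint_def.2 fun v h1 h2 => (smul_eq_zero.1 (show (2 * s) • v = 0 by
      have h3 := (hP.1 h1).symm.trans (hQ.1 h2)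
      rw [two_mul, add_smul]
      nth_rewrite 1 [h3]
      module)).resolve_left hs,
    codisjoint_iff.2 (eq_top_iff.2 fun v _ => (Submodule.smul_mem_iff _ hs).1 (Submodule.mem_sup.2 ⟨s • v + x v,
      hP.2 (by rw [map_add, map_smul, hxx]; module), s • v - x v, hQ.2 (by rw [map_sub, map_smul, hxx]; module), by module⟩))⟩
  have h1 : Nat.card (Module.End K P × Module.End K Q) ≤ cA x := by
    refine Nat.card_le_card_of_injective (fun f => ⟨LinearMap.ofIsCompl hPQ (P.subtype ∘ₗ f.1) (Q.subtype ∘ₗ f.2),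
      LinearMap.ext_on_codisjoint hPQ.codisjoint (fun p hp => ?_) fun p hp => ?_⟩) fun f f' e => ?_
    · rw [Module.End.mul_apply, Module.End.mul_apply, hP.1 hp, map_smul, LinearMap.ofIsCompl_apply_left hPQ ⟨p, hp⟩]
      exact (f.1 _).2
    · rw [Module.End.mul_apply, Module.End.mul_apply, hQ.1 hp, map_smul, LinearMap.ofIsCompl_apply_right hPQ ⟨p, hp⟩]
      exact (f.2 _).2
    · have e' := Subtype.mk.inj e
      refine Prod.ext (LinearMap.ext fun p => Subtype.ext ?_) (LinearMap.ext fun p => Subtype.ext ?_)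
      · simpa using LinearMap.congr_fun e' p
      · simpa using LinearMap.congr_fun e' p
  refine le_trans ?_ (Nat.pow_le_pow_left h1 2)
  rw [Nat.card_prod, card_end, card_end, card_end, ← pow_add, ← pow_mul, ← Submodule.finrank_add_eq_of_isCompl hPQ]
  refine Nat.pow_le_pow_right Nat.card_pos ?_
  zify
  nlinarith [sq_nonneg ((finrank K P : ℤ) - finrank K Q)]

/-- an invertible element with central square has a large commutant -/
theorem halfE {x : (Module.End K V)ˣ} (hx : (x : Module.End K V) * x ∈ Subring.center (Module.End K V)) :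
    Nat.card K ^ finrank K V ^ 2 ≤ cA (x : Module.End K V) ^ 2 := by
  have := finite_end (K := K) (V := V)
  rw [← card_end]
  obtain ⟨c, hc⟩ := scalar_of_cen hx
  by_cases hs : IsSquare c
  · obtain ⟨s, rfl⟩ := hs
    by_cases h2 : 2 * s = 0
    · refine half_of_anti (mul_one 1) ?_ hx
      rw [mul_one, one_mul, eq_neg_iff_add_eq_zero, ← Units.mul_right_inj x, mul_add, hc, ← add_smul, ← add_mul, ← two_mul, h2,
        zero_mul, zero_smul, mul_zero]
    · exact half_split hc h2
  · obtain ⟨g, h1, h2⟩ := exists_anti hc hs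
    exact half_of_anti h1 h2 hx

theorem smallE {x y : (Module.End K V)ˣ} (h : Gen (x : Module.End K V) y)
    (hx : (x : Module.End K V) * x ∈ Subring.center (Module.End K V)) :
    cA (y : Module.End K V) ≤ Nat.card K ^ (finrank K V ^ 2 / 4 + 1) ∨
      cA ((x * y : (Module.End K V)ˣ) : Module.End K V) ≤ Nat.card K ^ (finrank K V ^ 2 / 4 + 1) := by
  have h1 := scottE h
  have h2 := halfE hx
  rw [cA_eq, cA_eq, cA_eq, ← pow_add, ← pow_add, Nat.pow_le_pow_iff_right Finite.one_lt_card] at h1
  rw [cA_eq, ← pow_mul, Nat.pow_le_pow_iff_right Finite.one_lt_card] at h2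
  rw [cA_eq, cA_eq, Nat.pow_le_pow_iff_right Finite.one_lt_card, Nat.pow_le_pow_iff_right Finite.one_lt_card]
  omega

end lin

section mat

variable {K : Type*} [Field K] [Finite K] {n : ℕ}

/-- matrices as endomorphisms -/
noncomputable def toE (K : Type*) [Field K] (n : ℕ) : Matrix (Fin n) (Fin n) K ≃+* Module.End K (Fin n → K) :=
  (Matrix.toLinAlgEquiv' (R := K) (n := Fin n)).toRingEquiv

/-- invertible matrices as endomorphisms -/
noncomputable def toU (x : GL (Fin n) K) : (Module.End K (Fin n → K))ˣ := Units.map (toE K n : _ →* _) x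

theorem cA_toU (x : GL (Fin n) K) : cA (toU x : Module.End K (Fin n → K)) = cA (x : Matrix (Fin n) (Fin n) K) := cA_congr (toE K n) _

theorem toU_mul (x y : GL (Fin n) K) : toU x * toU y = toU (x * y) := (map_mul _ _ _).symm

theorem scottM {x y : GL (Fin n) K} (h : Gen (x : Matrix (Fin n) (Fin n) K) y) :
    cA (x : Matrix (Fin n) (Fin n) K) * cA (y : Matrix (Fin n) (Fin n) K) * cA ((x * y : GL (Fin n) K) : Matrix (Fin n) (Fin n) K) ≤
      Nat.card K ^ (n ^ 2 + 2) := by
  have := scottE (x := toU x) (y := toU y) (h.map (toE K n).toRingHom (toE K n).surjective)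
  rwa [toU_mul, cA_toU, cA_toU, cA_toU, Module.finrank_fin_fun] at this

theorem cen_toU {x : GL (Fin n) K} (hx : (x : Matrix (Fin n) (Fin n) K) * x ∈ Subring.center (Matrix (Fin n) (Fin n) K)) :
    (toU x : Module.End K (Fin n → K)) * toU x ∈ Subring.center (Module.End K (Fin n → K)) := by
  have := cen_map (toE K n).toRingHom (toE K n).surjective hx
  rwa [map_mul] at this

theorem halfM {x : GL (Fin n) K} (hx : (x : Matrix (Fin n) (Fin n) K) * x ∈ Subring.center (Matrix (Fin n) (Fin n) K)) :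
    Nat.card K ^ n ^ 2 ≤ cA (x : Matrix (Fin n) (Fin n) K) ^ 2 := by
  have := halfE (cen_toU hx)
  rwa [cA_toU, Module.finrank_fin_fun] at this

theorem smallM {x y : GL (Fin n) K} (h : Gen (x : Matrix (Fin n) (Fin n) K) y)
    (hx : (x : Matrix (Fin n) (Fin n) K) * x ∈ Subring.center (Matrix (Fin n) (Fin n) K)) :
    cA (y : Matrix (Fin n) (Fin n) K) ≤ Nat.card K ^ (n ^ 2 / 4 + 1) ∨
      cA ((x * y : GL (Fin n) K) : Matrix (Fin n) (Fin n) K) ≤ Nat.card K ^ (n ^ 2 / 4 + 1) := by
  have := smallE (x := toU x) (y := toU y) (h.map (toE K n).toRingHom (toE K n).surjective) (cen_toU hx)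
  rwa [toU_mul, cA_toU, cA_toU, Module.finrank_fin_fun] at this

end mat

section res

variable {A : Type} [Ring A] [StarRing A] [Finite A] {F : FR A} {H N : Subgroup (RingAut A)} (r : Res F H N)
include r

theorem gen_of_res {x y : Aˣ} (hN : N ≤ closure {cj A x, cj A y}) : Gen (x : A) y := fun Z hZ hx hy => by
  let G : Subgroup Aˣ :=
    { carrier := {g | (g : A) ∈ Z}
      one_mem' := Z.one_mem
      mul_mem' := fun ha hb => Z.mul_mem ha hb
      inv_mem' := fun {a} ha => by
        have h1 : a⁻¹ = a ^ (orderOf a - 1) := by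
          rw [inv_eq_iff_mul_eq_one, ← pow_succ', Nat.sub_add_cancel (orderOf_pos a), pow_orderOf_eq_one]
        rw [h1]
        exact Z.pow_mem ha _ }
  have h1 : N ≤ G.map (cj A) := hN.trans ((closure_le _).2 (Set.pair_subset ⟨x, hx, rfl⟩ ⟨y, hy, rfl⟩))
  refine eq_top_iff.2 fun a _ => Res.add_top r Z.toAddSubgroup (fun u hu => ?_) a
  obtain ⟨g, hg, e⟩ := h1 (Res.cj_mem hu)
  obtain ⟨z, hz, rfl⟩ := cj_eq_iff.1 e.symm
  exact Z.mul_mem hg (hZ hz)

/-- every non-central lift lies in a generating pair -/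
theorem res_pair {x : Aˣ} (hx : cj A x ∈ N) (h1 : cj A x ≠ 1) : ∃ y ∈ lft F N, Gen (x : A) y := by
  have : Finite (RingAut A) := Finite.of_injective (fun γ : RingAut A => (γ : A → A)) DFunLike.coe_injective
  have := r.simple
  obtain ⟨t, ht⟩ := FP3.gen N r.noncomm ⟨_, hx⟩ fun e => h1 (congrArg Subtype.val e)
  obtain ⟨y, hy, e⟩ := Res.exists_lft r t.2
  refine ⟨y, hy, gen_of_res r fun s hs => ?_⟩
  have h2 : (closure {⟨_, hx⟩, t}).map N.subtype ≤ closure {cj A x, cj A y} := by
    rw [MonoidHom.map_closure, Set.image_pair, e]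
    exact le_rfl
  exact h2 ⟨⟨s, hs⟩, ht ▸ trivial, rfl⟩

/-- the lift of an involution and a partner -/
theorem res_inv : ∃ x ∈ lft F N, ∃ y ∈ lft F N, (x : A) * x ∈ Subring.center A ∧ Gen (x : A) y := by
  have : Finite (RingAut A) := Finite.of_injective (fun γ : RingAut A => (γ : A → A)) DFunLike.coe_injective
  have := r.simple
  obtain ⟨t, h1, h2⟩ := FP3.hasInv N r.noncomm
  obtain ⟨x, hx, e⟩ := Res.exists_lft r t.2
  obtain ⟨y, hy, hg⟩ := res_pair r (Res.cj_mem hx) fun k => h1 (Subtype.ext (e.symm.trans k))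
  refine ⟨x, hx, y, hy, (DS.Cl.cj_eq_one_iff (u := x * x)).1 ?_, hg⟩
  rw [map_mul, e, ← sq]
  exact congrArg Subtype.val h2

/-- **class S, matrices**: an element of the socle with a small commutant -/
theorem res_smallM {K : Type} [Field K] [Finite K] {n : ℕ} (R : Res.Rep F K n) :
    ∃ g ∈ lft F N, cA (R.ρ g) ≤ Nat.card K ^ (n ^ 2 / 4 + 1) := by
  obtain ⟨x, hx, y, hy, h1, h2⟩ := res_inv r
  have h3 := cen_map R.ρ R.surj h1
  rw [map_mul] at h3
  rcases smallM (x := R.gl x) (y := R.gl y) (h2.map R.ρ R.surj) h3 with h | h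
  · exact ⟨y, hy, h⟩
  · exact ⟨x * y, mul_mem hx hy, by rwa [← map_mul] at h⟩

end res

variable {K V : Type} [Field K] [AddCommGroup V] [Module K V] [Finite K] [Finite V] {h : HF K V} {F : FR h.EB}
  {H N : Subgroup (RingAut h.EB)}

/-- **class S, forms** -/
theorem res_small (r : Res F H N) : ∃ g ∈ lft F N, cA (g : h.EB) ≤ Nat.card K ^ (finrank K V ^ 2 / 4 + 1) := by
  obtain ⟨x, hx, y, hy, h1, h2⟩ := res_inv r
  rcases smallE (K := K) (V := V) (x := x) (y := y) h2 h1 with k | k
  · exact ⟨y, hy, k⟩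
  · exact ⟨x * y, mul_mem hx hy, k⟩

/-- **class S, forms**: `|C_Iso(g)|² ≤ q ^ (n²/4 + 1 + n)` -/
theorem res_small_sq (r : Res F H N) : ∃ g ∈ lft F N,
    Nat.card ↥(centralizer {g} ⊓ F.Iso) ^ 2 ≤ Nat.card K ^ (finrank K V ^ 2 / 4 + 1 + finrank K V) := by
  have : Module.Finite K V := Module.Finite.of_finite
  obtain ⟨g, hg, k⟩ := res_small r
  refine ⟨g, hg, (sizeG h F (Res.lft_le_Iso F N hg) le_rfl).trans ?_⟩
  rw [pow_add _ _ (finrank K V), Module.natCard_eq_pow_finrank (K := K) (V := V)]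
  exact Nat.mul_le_mul_right _ k

end Cfsg.Agent.N2C.SzG
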